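import Groth.Agent.UnivOpen.Chevalley
import Groth.Agent.UnivOpen.Criterion
import Groth.Agent.FibDim.FlatBC
import Groth.Agent.FibDim.Minimal
import Groth.Agent.FibDim.Basic
import Groth.Agent.S9812
import Groth.Prelude.Def_W4bk4git07Quot
import Mathlib.AlgebraicGeometry.Morphisms.UniversallyOpen
import Mathlib.FieldTheory.IsAlgClosed.AlgebraicClosure

/-!
A dominant invariant morphism to a normal scheme with one orbit in each fibre is universally open.
-/

set_option autoImplicit false
set_option linter.style.haveILetI false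
set_option linter.unusedSectionVars false

set_option backward.isDefEq.respectTransparency false
set_option backward.isDefEq.respectTransparency.types false

universe u

open CategoryTheory CategoryTheory.Limits MonoidalCategory CartesianMonoidalCategory MonObj AlgebraicGeometry

namespace Groth.Agent.OrbFib66

/-- If the kernel pair of a dominant morphism to a normal scheme has open second projection, the morphism is
universally open. -/
theorem universallyOpen_of_isOpenMap_snd {X Y : Scheme.{u}} [IsIntegral X] [IsIntegral Y] [IsLocallyNoetherian Y]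
    (f : X ⟶ Y) [LocallyOfFiniteType f] [IsDominant f] (hY : ∀ y : Y, IsIntegrallyClosed (Y.presheaf.stalk y))
    (h : IsOpenMap (pullback.snd f f).base) : UniversallyOpen f := by
  haveI := LocallyOfFiniteType.isLocallyNoetherian f
  have hub : ∀ y : Y, CAlg2.IsGeomUnibranch (Y.presheaf.stalk y) := fun y =>
    haveI := hY y
    S9812.result _
  have hmaxX : ∀ t : X, t ⤳ genericPoint X → t = genericPoint X := fun t ht =>
    (ht.antisymm ((genericPoint_spec X).specializes (Set.mem_univ t))).eq
  have hgen : f (genericPoint X) = genericPoint Y := by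
    refine IsGenericPoint.eq (S := Set.univ) ?_ (genericPoint_spec Y)
    have := (genericPoint_spec X).image f.continuous
    rwa [Set.image_univ, f.denseRange.closure_range] at this
  have hmaxY : ∀ b : Y, b ⤳ f (genericPoint X) → b = f (genericPoint X) := fun b hb => by
    rw [hgen] at hb ⊢
    exact (hb.antisymm ((genericPoint_spec Y).specializes (Set.mem_univ b))).eq
  have hP : IsPullback (pullback.fst f f) (pullback.snd f f) f f := IsPullback.of_hasPullback f f
  refine (UnivOpen.universallyOpen_iff_forall f).mpr fun x => UnivOpen.isUnivOpenAt_fibre f (fun z _ hz => ?_) x rfl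
  obtain ⟨z', hz'₁, hz'₂⟩ := Scheme.Pullback.exists_preimage_pullback (f := f) (g := f) z z rfl
  obtain ⟨w, hw, hqw, hwmax, -⟩ := FibDim.exists_fibMax_generization (pullback.snd f f) z'
  have hpw : pullback.fst f f w = z := by
    refine hz _ (hz'₁ ▸ hw.map (pullback.fst f f).continuous) ?_
    calc f (pullback.fst f f w) = f (pullback.snd f f w) := by
          rw [← Scheme.Hom.comp_apply, ← Scheme.Hom.comp_apply, pullback.condition]
      _ = f z := by rw [hqw, hz'₂]
  have hrw : FibDim.rd (pullback.snd f f) w = FibDim.rd f z := by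
    rw [FibDim.rd_baseChange_eq_of_minimal hP w fun v hv _ hqv => hwmax v hv hqv, hpw]
  obtain ⟨η', -, hη'max, hqη', hr⟩ := UnivOpen.exists_witness_of_isOpenAt (pullback.snd f f) hwmax
    (fun U hU => h.image_mem_nhds hU) (genericPoint X) ((genericPoint_spec X).specializes (Set.mem_univ _)) hmaxX
  have hη'fib : FibDim.FibMax (pullback.snd f f) η' := FibDim.fibMax_of_maximal _ hη'max
  have hpη' : pullback.fst f f η' = genericPoint X := by
    refine ((FibDim.fibMax_of_baseChange hP hη'fib) _ ((genericPoint_spec X).specializes (Set.mem_univ _)) ?_).symm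
    rw [← hqη', ← Scheme.Hom.comp_apply, ← Scheme.Hom.comp_apply, pullback.condition]
  have hrη : FibDim.rd f (genericPoint X) = FibDim.rd f z := by
    rw [← hrw, ← hr, FibDim.rd_baseChange_eq_of_minimal hP η' fun v hv _ hqv => hη'max v hv, hpη']
  exact UnivOpen.isUnivOpenAt_of_witness f (hub _) hz ((genericPoint_spec X).specializes (Set.mem_univ _)) hmaxX
    hmaxY hrη

variable {S : Scheme.{u}} {G X Y : Over S} [GrpObj G] {a : AlgGrp.Action G X} {φ : X ⟶ Y}

theorem exists_geomPt (P : Scheme.{u}) (z : P) : ∃ (Ω : Type u) (_ : Field Ω) (_ : IsAlgClosed Ω)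
    (i : Spec (CommRingCat.of Ω) ⟶ P) (p : Spec (CommRingCat.of Ω)), i.base p = z := by
  refine ⟨AlgebraicClosure (P.residueField z), inferInstance, inferInstance,
    Spec.map (CommRingCat.ofHom (algebraMap (P.residueField z) (AlgebraicClosure (P.residueField z)))) ≫
      P.fromSpecResidueField z, IsLocalRing.closedPoint _, ?_⟩
  rw [Scheme.Hom.comp_apply]
  exact Scheme.fromSpecResidueField_apply _ _

/-- At most one orbit in each geometric fibre makes the orbit map onto the kernel pair surjective. -/
theorem surjective_psiY (hi : GIT.IsInvariant a φ)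
    (hii : ∀ (Ω : Type u) [Field Ω] [IsAlgClosed Ω] (T : Over S) (_ : T.left ≅ Spec (CommRingCat.of Ω))
      (x₁ x₂ : T ⟶ X), x₁ ≫ φ = x₂ ≫ φ → ∃ g : T ⟶ G, lift g x₂ ≫ a.act = x₁) :
    Function.Surjective (GIT.PsiY a φ hi).base := by
  intro z
  obtain ⟨Ω, _, _, i, p, hp⟩ := exists_geomPt (pullback φ.left φ.left) z
  let T : Over S := Over.mk ((i ≫ pullback.fst φ.left φ.left) ≫ X.hom)
  let x₁ : T ⟶ X := Over.homMk (i ≫ pullback.fst φ.left φ.left) rfl
  let x₂ : T ⟶ X := Over.homMk (i ≫ pullback.snd φ.left φ.left) (by
    show (i ≫ pullback.snd φ.left φ.left) ≫ X.hom = (i ≫ pullback.fst φ.left φ.left) ≫ X.hom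
    simp only [Category.assoc]
    refine congrArg (i ≫ ·) ?_
    rw [← Over.w φ, pullback.condition_assoc])
  obtain ⟨g, hg⟩ := hii Ω T (Iso.refl _) x₁ x₂ (Over.OverMorphism.ext (by
    show (i ≫ pullback.fst _ _) ≫ φ.left = (i ≫ pullback.snd _ _) ≫ φ.left
    exact (Category.assoc _ _ _).trans ((congrArg (i ≫ ·) pullback.condition).trans (Category.assoc _ _ _).symm)))
  have e : (lift g x₂).left ≫ GIT.PsiY a φ hi = i := by
    apply pullback.hom_ext
    · rw [Category.assoc, GIT.PsiY, pullback.lift_fst, ← Over.comp_left, hg]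
      rfl
    · rw [Category.assoc, GIT.PsiY, pullback.lift_snd, ← Over.comp_left, lift_snd]
      rfl
  refine ⟨(lift g x₂).left.base p, ?_⟩
  rw [← Scheme.Hom.comp_apply, e]
  exact hp

theorem isOpenMap_snd [UniversallyOpen G.hom] (hi : GIT.IsInvariant a φ)
    (ho : Function.Surjective (GIT.PsiY a φ hi).base) : IsOpenMap (pullback.snd φ.left φ.left).base := by
  haveI : UniversallyOpen (snd G X).left :=
    (MorphismProperty.pullback_snd (P := @UniversallyOpen) G.hom X.hom (inferInstanceAs (UniversallyOpen G.hom)) :
      UniversallyOpen (pullback.snd G.hom X.hom))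
  intro W hW
  have e : (pullback.snd φ.left φ.left).base '' W = (snd G X).left.base '' ((GIT.PsiY a φ hi).base ⁻¹' W) := by
    have hfac : GIT.PsiY a φ hi ≫ pullback.snd φ.left φ.left = (snd G X).left := pullback.lift_snd _ _ _
    conv_rhs => rw [← hfac, Scheme.Hom.comp_base, TopCat.coe_comp, Set.image_comp, Set.image_preimage_eq W ho]
  rw [e]
  exact (snd G X).left.isOpenMap _ (hW.preimage (GIT.PsiY a φ hi).continuous)

end Groth.Agent.OrbFib66
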