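import Groth.Agent.Obs28.PurelyInsepNormal
import Groth.Agent.GrpSchLib.FieldReduced
import Groth.Agent.OrbFib66.Open
import Mathlib.AlgebraicGeometry.Restrict
import Mathlib.FieldTheory.Perfect

/-!
Invariant functions of an action with one orbit in each fibre over a normal scheme come from the base.
-/

set_option autoImplicit false
set_option linter.style.haveILetI false
set_option linter.unusedSectionVars false
set_option backward.isDefEq.respectTransparency false
set_option backward.isDefEq.respectTransparency.types false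

universe u

open CategoryTheory CategoryTheory.Limits MonoidalCategory CartesianMonoidalCategory MonObj AlgebraicGeometry
open TopologicalSpace TensorProduct
open Groth.Agent.Obs28

namespace Groth.Agent.OrbFib66

/-- In characteristic zero an element on which all embeddings agree lies in the ground field. -/
theorem mem_range_of_forall_embeddings {K L : Type u} [Field K] [Field L] [CharZero K] (i : K →+* L) (z : L)
    (h : ∀ (Ω : Type u) [Field Ω] [IsAlgClosed Ω] (σ τ : L →+* Ω), σ.comp i = τ.comp i → σ z = τ z) :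
    z ∈ Set.range i := by
  letI := i.toAlgebra
  by_contra hz
  haveI : PerfectField K := PerfectField.ofCharZero
  haveI : _root_.IsReduced (L ⊗[K] L) := GrpSchLib.isReduced_tensor_of_perfectField
  have hne : z ⊗ₜ[K] (1 : L) - (1 : L) ⊗ₜ[K] z ≠ 0 := by
    intro h0
    obtain ⟨v, hv⟩ : ∃ v : Module.Dual K L, v 1 = 0 ∧ v z ≠ 0 := by
      have hnot : z ∉ Submodule.span K ({1} : Set L) := fun hm => by
        obtain ⟨c, hc⟩ := Submodule.mem_span_singleton.1 hm
        exact hz ⟨c, by rw [← hc, Algebra.smul_def, _root_.mul_one]; rfl⟩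
      obtain ⟨v, hv, hv'⟩ := Submodule.exists_dual_map_eq_bot_of_notMem hnot inferInstance
      refine ⟨v, ?_, hv⟩
      have : v 1 ∈ (Submodule.span K ({1} : Set L)).map v := ⟨1, Submodule.mem_span_singleton_self 1, rfl⟩
      rwa [hv', Submodule.mem_bot] at this
    have h1 := congrArg (fun t => (TensorProduct.lid K L) (TensorProduct.map v LinearMap.id t)) h0
    simp only [map_sub, TensorProduct.map_tmul, LinearMap.id_coe, id_eq, TensorProduct.lid_tmul, hv.1, zero_smul,
      sub_zero, map_zero] at h1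
    rcases smul_eq_zero.1 h1 with h2 | h2
    · exact hv.2 h2
    · exact one_ne_zero h2
  obtain ⟨Q, hQ, hnmem⟩ : ∃ Q : Ideal (L ⊗[K] L), Q.IsPrime ∧ z ⊗ₜ[K] (1 : L) - (1 : L) ⊗ₜ[K] z ∉ Q := by
    by_contra! hall
    refine hne ?_
    have : z ⊗ₜ[K] (1 : L) - (1 : L) ⊗ₜ[K] z ∈ nilradical (L ⊗[K] L) := by
      rw [nilradical_eq_sInf]
      exact Submodule.mem_sInf.2 fun Q hQ => hall Q hQ
    rwa [nilradical_eq_zero, Ideal.zero_eq_bot, Ideal.mem_bot] at this
  haveI := hQ
  let ρ : L ⊗[K] L →+* AlgebraicClosure (FractionRing ((L ⊗[K] L) ⧸ Q)) :=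
    (algebraMap (FractionRing ((L ⊗[K] L) ⧸ Q)) _).comp ((algebraMap ((L ⊗[K] L) ⧸ Q) _).comp (Ideal.Quotient.mk Q))
  have h2 := h _ (ρ.comp (Algebra.TensorProduct.includeLeft : L →ₐ[K] L ⊗[K] L).toRingHom)
    (ρ.comp (Algebra.TensorProduct.includeRight : L →ₐ[K] L ⊗[K] L).toRingHom) (RingHom.ext fun c => congrArg ρ
      ((Algebra.TensorProduct.includeLeft : L →ₐ[K] L ⊗[K] L).commutes c |>.trans
        ((Algebra.TensorProduct.includeRight : L →ₐ[K] L ⊗[K] L).commutes c).symm))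
  refine hnmem (Ideal.Quotient.eq_zero_iff_mem.1 ?_)
  rw [map_sub, sub_eq_zero]
  refine IsFractionRing.injective ((L ⊗[K] L) ⧸ Q) (FractionRing ((L ⊗[K] L) ⧸ Q)) ?_
  exact (algebraMap (FractionRing ((L ⊗[K] L) ⧸ Q)) (AlgebraicClosure (FractionRing ((L ⊗[K] L) ⧸ Q)))).injective h2

/-- A function which is generically in the function field of a normal base comes from the base. -/
theorem exists_eq_appTop {X Y : Scheme.{u}} [AlgebraicGeometry.IsIntegral X] [AlgebraicGeometry.IsIntegral Y]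
    (f : Y ⟶ X) [AlgebraicGeometry.Surjective f] [IsLocallyNoetherian X]
    (hX : ∀ x : X, IsIntegrallyClosed (X.presheaf.stalk x)) (b : Γ(Y, ⊤)) [Nonempty (⊤ : Y.Opens)]
    (g : X.functionField) (hg : PINormal.ffMap f g = Y.germToFunctionField ⊤ b) :
    ∃ a : Γ(X, ⊤), f.appTop a = b := by
  haveI : Nonempty (⊤ : X.Opens) := ⟨⟨genericPoint X, trivial⟩⟩
  let J := {U : X.Opens // IsAffineOpen U ∧ Nonempty U}
  choose sf hsf using fun U : J => haveI := U.2.2; PINormal.mem_of_integrallyClosed f hX hg U.1 U.2.1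
  have hcompat : TopCat.Presheaf.IsCompatible X.presheaf (fun U : J => U.1) sf := fun U V => by
    haveI := U.2.2; haveI := V.2.2
    have hne : ∀ W : X.Opens, Nonempty W → genericPoint X ∈ W := fun W hW =>
      ((genericPoint_spec X).mem_open_set_iff W.isOpen).mpr (by simpa using hW)
    haveI : Nonempty (U.1 ⊓ V.1 : X.Opens) := ⟨⟨genericPoint X, hne _ U.2.2, hne _ V.2.2⟩⟩
    apply Scheme.germToFunctionField_injective X (U.1 ⊓ V.1)
    refine (X.presheaf.germ_res_apply _ _ _ _).trans ?_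
    refine Eq.trans ?_ (X.presheaf.germ_res_apply _ _ _ _).symm
    exact (hsf U).trans (hsf V).symm
  obtain ⟨a, ha, -⟩ := X.sheaf.existsUnique_gluing' (fun U : J => U.1) ⊤ (fun U => homOfLE le_top) (fun x _ => by
    obtain ⟨U, hU, hxU, -⟩ := exists_isAffineOpen_mem_and_subset (x := x) (U := ⊤) trivial
    exact TopologicalSpace.Opens.mem_iSup.mpr ⟨⟨U, hU, ⟨⟨x, hxU⟩⟩⟩, hxU⟩) sf hcompat
  refine ⟨a, Scheme.germToFunctionField_injective Y ⊤ ?_⟩
  obtain ⟨U, hU, hxU, -⟩ := exists_isAffineOpen_mem_and_subset (x := genericPoint X) (U := ⊤) trivial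
  haveI : Nonempty U := ⟨⟨_, hxU⟩⟩
  haveI := PINormal.nonempty_preimage f ⊤
  refine (PINormal.ffMap_germ f ⊤ a).symm.trans (Eq.trans ?_ hg)
  congr 1
  rw [← hsf ⟨U, hU, inferInstance⟩, ← ha ⟨U, hU, inferInstance⟩]
  exact (X.presheaf.germ_res_apply _ _ _ a).symm

theorem isIntegrallyClosed_stalk {Y : Scheme.{u}} [AlgebraicGeometry.IsIntegral Y]
    (hY : ∀ U : Y.affineOpens, IsIntegrallyClosed Γ(Y, U)) (y : Y) : IsIntegrallyClosed (Y.presheaf.stalk y) := by
  obtain ⟨U, hU, hy, -⟩ := exists_isAffineOpen_mem_and_subset (x := y) (U := ⊤) trivial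
  haveI : Nonempty U := ⟨⟨y, hy⟩⟩
  haveI : IsIntegrallyClosed Γ(Y, U) := hY ⟨U, hU⟩
  letI := Y.presheaf.algebra_section_stalk (⟨y, hy⟩ : U)
  haveI := hU.isLocalization_stalk ⟨y, hy⟩
  exact isIntegrallyClosed_of_isLocalization _ (hU.primeIdealOf ⟨y, hy⟩).asIdeal.primeCompl
    (hU.primeIdealOf ⟨y, hy⟩).asIdeal.primeCompl_le_nonZeroDivisors

variable {S : Scheme.{u}} {G X Y : Over S} [GrpObj G] {a : AlgGrp.Action G X} {φ : X ⟶ Y}

theorem isInvSection_app (hi : GIT.IsInvariant a φ) (U : Y.left.Opens) (c : Γ(Y.left, U)) :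
    GIT.IsInvSection a φ U (φ.left.app U c) := by
  have e : a.act.left ≫ φ.left = (snd G X).left ≫ φ.left := congrArg (fun t => t.left) hi
  rw [GIT.IsInvSection, Scheme.Hom.app_eq_appLE, ← CommRingCat.comp_apply, ← CommRingCat.comp_apply,
    Scheme.Hom.appLE_comp_appLE, Scheme.Hom.appLE_comp_appLE]
  simp only [e]

theorem bijective_ι_appLE {Z : Scheme.{u}} (U : Z.Opens) (h : ⊤ ≤ U.ι ⁻¹ᵁ U) :
    Function.Bijective (U.ι.appLE U ⊤ h).hom := by
  haveI : IsIso (U.ι.app U) := Scheme.Hom.isIso_app U.ι U (by rw [Scheme.Opens.opensRange_ι])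
  haveI : IsIso (homOfLE h : (⊤ : U.toScheme.Opens) ⟶ U.ι ⁻¹ᵁ U).op := by
    haveI : IsIso (homOfLE h : (⊤ : U.toScheme.Opens) ⟶ U.ι ⁻¹ᵁ U) :=
      ⟨⟨homOfLE le_top, Subsingleton.elim _ _, Subsingleton.elim _ _⟩⟩
    infer_instance
  exact ConcreteCategory.bijective_of_isIso (U.ι.app U ≫ U.toScheme.presheaf.map (homOfLE h).op)

/-- The functions on an open of the base are the invariant functions over it. -/
theorem sections [AlgebraicGeometry.IsIntegral X.left] [AlgebraicGeometry.IsIntegral Y.left]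
    [IsLocallyNoetherian Y.left] [CharZero Y.left.functionField] [Surjective φ.left]
    (hY : ∀ y : Y.left, IsIntegrallyClosed (Y.left.presheaf.stalk y)) (hi : GIT.IsInvariant a φ)
    (hii : ∀ (Ω : Type u) [Field Ω] [IsAlgClosed Ω] (T : Over S) (_ : T.left ≅ Spec (CommRingCat.of Ω))
      (x₁ x₂ : T ⟶ X), x₁ ≫ φ = x₂ ≫ φ → ∃ g : T ⟶ G, lift g x₂ ≫ a.act = x₁) (U : Y.left.Opens) :
    Function.Injective (φ.left.app U) ∧ Set.range (φ.left.app U) = {f | GIT.IsInvSection a φ U f} := by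
  rcases isEmpty_or_nonempty U with hU | hU
  · have hbot : U = ⊥ := Opens.ext (Set.eq_empty_iff_forall_notMem.2 fun y hy => hU.false ⟨y, hy⟩)
    subst hbot
    haveI : Subsingleton Γ(Y.left, (⊥ : Y.left.Opens)) := inferInstance
    haveI : Subsingleton Γ(X.left, φ.left ⁻¹ᵁ (⊥ : Y.left.Opens)) := by
      rw [Scheme.Hom.preimage_bot]
      infer_instance
    refine ⟨fun x y _ => Subsingleton.elim x y, Set.ext fun f => ⟨fun ⟨c, hc⟩ => hc ▸ isInvSection_app hi _ c,
      fun _ => ⟨0, Subsingleton.elim _ _⟩⟩⟩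
  haveI := PINormal.nonempty_preimage φ.left U
  let P := φ.left ⁻¹ᵁ U
  refine ⟨fun c c' h => ?_, ?_⟩
  · have h' := congrArg (X.left.germToFunctionField P) h
    rw [← PINormal.ffMap_germ, ← PINormal.ffMap_germ] at h'
    exact Scheme.germToFunctionField_injective Y.left U ((PINormal.ffMap φ.left).hom.injective h')
  refine Set.Subset.antisymm ?_ fun b hb => ?_
  · rintro _ ⟨c, rfl⟩
    exact isInvSection_app hi U c
  let f : P.toScheme ⟶ U.toScheme := φ.left ∣_ U
  haveI : Nonempty P.toScheme := inferInstanceAs (Nonempty P)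
  haveI : Nonempty U.toScheme := hU
  haveI : AlgebraicGeometry.IsIntegral P.toScheme := isIntegral_of_isOpenImmersion P.ι
  haveI : AlgebraicGeometry.IsIntegral U.toScheme := isIntegral_of_isOpenImmersion U.ι
  haveI : Surjective f := MorphismProperty.of_isPullback (P := @Surjective)
    (isPullback_morphismRestrict φ.left U).flip inferInstance
  haveI : IsLocallyNoetherian U.toScheme := isLocallyNoetherian_of_isOpenImmersion U.ι
  have hX' : ∀ x : U.toScheme, IsIntegrallyClosed (U.toScheme.presheaf.stalk x) := fun x =>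
    haveI := hY (U.ι x)
    IsIntegrallyClosed.of_equiv (asIso (U.ι.stalkMap x)).commRingCatIsoToRingEquiv
  haveI : Nonempty (⊤ : P.toScheme.Opens) := ⟨⟨genericPoint P.toScheme, trivial⟩⟩
  haveI : Nonempty (⊤ : U.toScheme.Opens) := ⟨⟨genericPoint U.toScheme, trivial⟩⟩
  haveI : CharZero U.toScheme.functionField := by
    let r : Y.left.functionField →+* U.toScheme.functionField :=
      (U.ι.stalkMap (genericPoint U.toScheme)).hom.comp
        (Y.left.presheaf.stalkSpecializes (specializes_of_eq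
          (genericPoint_eq_of_isOpenImmersion U.ι))).hom
    exact charZero_of_injective_ringHom r.injective
  have htP : ⊤ ≤ P.ι ⁻¹ᵁ P := fun z _ => z.2
  let b' : Γ(P.toScheme, ⊤) := P.ι.appLE P ⊤ htP b
  obtain ⟨g, hg⟩ := mem_range_of_forall_embeddings (PINormal.ffMap f).hom (P.toScheme.germToFunctionField ⊤ b')
    fun Ω _ _ σ τ hστ => by
      let pt : (P.toScheme.functionField →+* Ω) → (Spec (CommRingCat.of Ω) ⟶ P.toScheme) := fun ρ =>
        Spec.map (CommRingCat.ofHom ρ) ≫ P.toScheme.fromSpecStalk (genericPoint P.toScheme)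
      have hpt : pt σ ≫ f = pt τ ≫ f := by
        have e : ∀ ρ, pt ρ ≫ f = Spec.map (CommRingCat.ofHom (ρ.comp (PINormal.ffMap f).hom)) ≫
            U.toScheme.fromSpecStalk (genericPoint U.toScheme) := fun ρ => by
          rw [CommRingCat.ofHom_comp, Spec.map_comp, CommRingCat.ofHom_hom, PINormal.ffMap, Spec.map_comp]
          simp only [Category.assoc, pt]
          rw [Scheme.SpecMap_stalkSpecializes_fromSpecStalk, Scheme.SpecMap_stalkMap_fromSpecStalk]
        rw [e, e, hστ]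
      have hφ' : ∀ ρ, (pt ρ ≫ P.ι) ≫ φ.left = (pt ρ ≫ f) ≫ U.ι := fun ρ =>
        (Category.assoc _ _ _).trans ((congrArg (pt ρ ≫ ·) (morphismRestrict_ι φ.left U).symm).trans
          (Category.assoc _ _ _).symm)
      let T : Over S := Over.mk ((pt σ ≫ P.ι) ≫ X.hom)
      let xσ : T ⟶ X := Over.homMk (pt σ ≫ P.ι) rfl
      let xτ : T ⟶ X := Over.homMk (pt τ ≫ P.ι) (by
        show (pt τ ≫ P.ι) ≫ X.hom = (pt σ ≫ P.ι) ≫ X.hom
        rw [← Over.w φ, ← Category.assoc, hφ', ← hpt, ← hφ', Category.assoc])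
      obtain ⟨w, hw⟩ := hii Ω T (Iso.refl _) xσ xτ (Over.OverMorphism.ext (by
        show (pt σ ≫ P.ι) ≫ φ.left = (pt τ ≫ P.ι) ≫ φ.left
        rw [hφ', hφ', hpt]))
      have hσP : ⊤ ≤ xσ.left ⁻¹ᵁ P := fun z _ => ((pt σ).base z).2
      have hτP : ⊤ ≤ xτ.left ⁻¹ᵁ P := fun z _ => ((pt τ).base z).2
      have e₁ : (lift w xτ).left ≫ a.act.left = xσ.left := congrArg (fun t => t.left) hw
      have e₂ : (lift w xτ).left ≫ (snd G X).left = xτ.left := congrArg (fun t => t.left) (lift_snd w xτ)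
      have hW : ⊤ ≤ (lift w xτ).left ⁻¹ᵁ (a.act.left ⁻¹ᵁ P ⊓ (snd G X).left ⁻¹ᵁ P) := fun z hz => ⟨by
        show ((lift w xτ).left ≫ a.act.left).base z ∈ P
        rw [e₁]
        exact hσP hz, by
        show ((lift w xτ).left ≫ (snd G X).left).base z ∈ P
        rw [e₂]
        exact hτP hz⟩
      have h1 : (lift w xτ).left.appLE _ ⊤ hW (a.act.left.appLE P _ inf_le_left b) =
          (lift w xτ).left.appLE _ ⊤ hW ((snd G X).left.appLE P _ inf_le_right b) := congrArg _ hb
      rw [← CommRingCat.comp_apply, ← CommRingCat.comp_apply, Scheme.Hom.appLE_comp_appLE,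
        Scheme.Hom.appLE_comp_appLE] at h1
      simp only [e₁, e₂] at h1
      have key : ∀ ρ (h : ⊤ ≤ (pt ρ ≫ P.ι) ⁻¹ᵁ P), (pt ρ ≫ P.ι).appLE P ⊤ h b =
          (Scheme.ΓSpecIso (CommRingCat.of Ω)).inv (ρ (P.toScheme.germToFunctionField ⊤ b')) := fun ρ h => by
        have hle : (⊤ : (Spec (CommRingCat.of Ω)).Opens) ≤ pt ρ ⁻¹ᵁ ⊤ := fun _ _ => trivial
        rw [← Scheme.Hom.appLE_comp_appLE (pt ρ) P.ι P ⊤ ⊤ htP hle, CommRingCat.comp_apply,
          show (pt ρ).appLE ⊤ ⊤ hle = (pt ρ).appTop from (Scheme.Hom.app_eq_appLE (pt ρ) (U := ⊤)).symm]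
        show (pt ρ).appTop b' = _
        simp only [pt, Scheme.Hom.comp_appTop, CommRingCat.comp_apply, Scheme.fromSpecStalk_appTop]
        rw [show (homOfLE _).op = 𝟙 _ from Subsingleton.elim _ _, CategoryTheory.Functor.map_id]
        exact (congr($(Scheme.ΓSpecIso_inv_naturality (CommRingCat.ofHom ρ)) _)).symm
      have h2 := ((key σ hσP).symm.trans h1).trans (key τ hτP)
      simpa using congrArg (Scheme.ΓSpecIso (CommRingCat.of Ω)).hom h2
  obtain ⟨c', hc'⟩ := exists_eq_appTop f hX' b' g hg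
  have htU : ⊤ ≤ U.ι ⁻¹ᵁ U := fun z _ => z.2
  obtain ⟨c, hc⟩ := (bijective_ι_appLE U htU).2 c'
  refine ⟨c, (bijective_ι_appLE P htP).1 ?_⟩
  show P.ι.appLE P ⊤ htP (φ.left.app U c) = b'
  rw [← hc', ← hc]
  show _ = f.app ⊤ (U.ι.appLE U ⊤ htU c)
  rw [Scheme.Hom.app_eq_appLE, Scheme.Hom.app_eq_appLE, ← CommRingCat.comp_apply, ← CommRingCat.comp_apply,
    Scheme.Hom.appLE_comp_appLE, Scheme.Hom.appLE_comp_appLE]
  simp only [f, morphismRestrict_ι]
  rfl

end Groth.Agent.OrbFib66
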